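import Mathlib

/-!
# Gagola groups (S4841): odd p, two finite checks
-/

set_option autoImplicit false

namespace Cfsg.Lib.GG

theorem arith5040' {p m n N j M : ℕ} (hM : p = 3 ∧ M = 560 ∨ p = 5 ∧ M = 1008 ∨ p = 7 ∧ M = 720)
    (hm : 1 ≤ m) (h1 : N ≠ 1) (hN : N * j = M) (hv : p ^ n + N = N * p ^ m + 1)
    (hd : j ∣ p ^ m - 1) : False := by
  have p3 : 3 ≤ p := by omega
  have M0 : 0 < M ∧ M ≤ 1008 := by omega
  have N2 : 2 ≤ N := by
    rcases N with _ | _ | N <;> simp_all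
  have NM : N ≤ M := Nat.le_of_dvd M0.1 ⟨j, hN.symm⟩
  have u3 : 3 ≤ p ^ m := p3.trans (Nat.le_self_pow (by omega) p)
  have mn : m < n := (Nat.pow_lt_pow_iff_right (by omega : 1 < p)).1 (by nlinarith)
  have d : p ^ m ∣ N - 1 := by
    have e : N - 1 = N * p ^ m - p ^ n := by omega
    exact e ▸ Nat.dvd_sub (dvd_mul_left _ _) (pow_dvd_pow p mn.le)
  have uN : p ^ m < N := by have := Nat.le_of_dvd (by omega) d; omega
  have lt {a b : ℕ} (h : p ^ a < 3 ^ b) : a < b :=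
    (Nat.pow_lt_pow_iff_right (by norm_num : 1 < 3)).1 ((Nat.pow_le_pow_left p3 a).trans_lt h)
  have m7 : m < 7 := lt (by omega)
  have n13 : n < 13 := lt (by nlinarith)
  have jj : j = M / N := by rw [← hN, Nat.mul_div_cancel_left _ (by omega)]
  have key : ∀ x ∈ [(3, 560), (5, 1008), (7, 720)], ∀ N < 1009, N ∣ x.2 → N ≠ 1 → ∀ m < 7, 1 ≤ m →
      x.2 / N ∣ x.1 ^ m - 1 → ∀ n < 13, x.1 ^ n + N ≠ N * x.1 ^ m + 1 := by decide +kernel
  exact key (p, M) (by simpa using hM) N (by omega) ⟨j, hN.symm⟩ h1 m m7 hm (jj ▸ hd) n n13 hv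

theorem num5' {p e k j a b ε : ℕ} (hp : p.Prime) (h7 : 7 ≤ p) (he : 1 ≤ e) (hk : 2 ≤ k)
    (h : ((p ^ e) ^ k - 1) * p ^ j = 120 * ε * (a * b)) (hε : ε ∣ 2) (ha : a ∣ p ^ e - 1)
    (hb : b ≤ e) (hc : (a * b).Coprime 30) :
    ε = 1 ∧ b = 1 ∧ (p = 11 ∧ a = 1 ∨ p = 29 ∧ a = 7 ∨ p = 59 ∧ a = 29) := by
  have ε2 : ε ≤ 2 := Nat.le_of_dvd two_pos hε
  have pQ : p ≤ p ^ e := Nat.le_self_pow (by omega) p
  have o : Odd (p ^ e) := (hp.odd_of_ne_two (by omega)).pow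
  have a2 : 2 * a ≤ p ^ e - 1 := Nat.le_of_dvd (by omega) (Nat.Coprime.mul_dvd_of_dvd_of_dvd
    ((hc.coprime_mul_right.coprime_dvd_right (by norm_num : 2 ∣ 30)).symm)
    (by obtain ⟨c, hc⟩ := o; omega) ha)
  have lt {x y : ℕ} (h : p ^ x < 7 ^ y) : x < y :=
    (Nat.pow_lt_pow_iff_right (by norm_num : 1 < 7)).1 ((Nat.pow_le_pow_left h7 x).trans_lt h)
  have j1 : 1 ≤ p ^ j := Nat.one_le_pow _ _ hp.pos
  obtain ⟨R, hR⟩ : ∃ R, p ^ e = R + 1 := ⟨p ^ e - 1, by omega⟩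
  have R6 : 6 ≤ R := by omega
  have up : ((R + 1) ^ k - 1) * p ^ j ≤ 120 * R * b := by
    rw [← hR, h]
    calc 120 * ε * (a * b) ≤ 120 * 2 * (a * b) := by gcongr
      _ = 120 * (2 * a) * b := by ring
      _ ≤ 120 * R * b := by gcongr; omega
  have lo {i : ℕ} (hi : i ≤ k) : ((R + 1) ^ i - 1) * p ^ j ≤ 120 * R * b :=
    le_trans (by gcongr; omega) up
  have s2 : (R + 2) * p ^ j ≤ 120 * b := by
    have := lo hk
    rw [show (R + 1) ^ 2 - 1 = R * (R + 2) from Nat.sub_eq_of_eq_add (by ring)] at this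
    exact Nat.le_of_mul_le_mul_left (by nlinarith) (by omega : 0 < R)
  have e4 : e < 4 := by
    by_contra n
    have k7 : ∀ e, 4 ≤ e → 120 * e < 7 ^ e := fun e he => by
      induction e, he using Nat.le_induction with
      | base => norm_num
      | succ e he ih => rw [pow_succ]; omega
    have := k7 e (by omega)
    have := Nat.pow_le_pow_left h7 e
    nlinarith
  obtain rfl : b = 1 := by
    have c := hc.coprime_mul_left
    have : b < 4 := by omega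
    interval_cases b <;> first | rfl | exact absurd c (by norm_num)
  have Q : p ^ e < 120 := by nlinarith
  have e3 : e < 3 := lt (Q.trans (by norm_num))
  have j2 : j < 2 := lt (by nlinarith)
  have k4 : k < 4 := by
    by_contra n
    have := lo (i := 4) (by omega)
    rw [show (R + 1) ^ 4 - 1 = R * (R ^ 3 + 4 * R ^ 2 + 6 * R + 4) from Nat.sub_eq_of_eq_add (by ring)] at this
    have : (R ^ 3 + 4 * R ^ 2 + 6 * R + 4) * p ^ j ≤ 120 := Nat.le_of_mul_le_mul_left (by nlinarith) (by omega : 0 < R)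
    have : 6 ^ 3 ≤ R ^ 3 := Nat.pow_le_pow_left R6 3
    nlinarith
  have nd {q : ℕ} (hq : q.Prime) (d : q ∣ p) : p = q := ((Nat.prime_dvd_prime_iff_eq hq hp).1 d).symm
  have key : ((List.range 120).all fun p => (List.range 3).all fun e =>
      decide (¬ (7 ≤ p ∧ ¬ 2 ∣ p ∧ ¬ 3 ∣ p ∧ ¬ 5 ∣ p ∧ (¬ 7 ∣ p ∨ p = 7) ∧ 1 ≤ e ∧ p ^ e < 120)) || (List.range 4).all fun k =>
      (List.range 2).all fun j => (List.range 3).all fun ε => (List.range 60).all fun a =>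
      decide ((2 ≤ k ∧ ε ∣ 2 ∧ ((p ^ e) ^ k - 1) * p ^ j = 120 * ε * (a * 1) ∧ a ∣ p ^ e - 1 ∧ Nat.gcd (a * 1) 30 = 1) →
        ε = 1 ∧ (p = 11 ∧ a = 1 ∨ p = 29 ∧ a = 7 ∨ p = 59 ∧ a = 29))) = true := by decide +kernel
  simp only [List.all_eq_true, List.mem_range, Bool.or_eq_true, decide_eq_true_eq] at key
  have := (key p (by omega) e e3).resolve_left (not_not.2 ⟨h7, fun d => by have := nd Nat.prime_two d; omega,
    fun d => by have := nd Nat.prime_three d; omega, fun d => by have := nd Nat.prime_five d; omega,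
    or_iff_not_imp_left.2 fun d => nd (by norm_num) (not_not.1 d), he, Q⟩) k k4 j j2 ε (by omega) a (by omega) ⟨hk, hε, h, ha, hc⟩
  exact ⟨this.1, rfl, this.2⟩

end Cfsg.Lib.GG
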